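import Cfsg.Agent.Lib.Huppert.Pairing
import Cfsg.Agent.Lib.Nearfield.Algebra
import Cfsg.Agent.Lib.Zsigmondy.Basic
import Mathlib.GroupTheory.Solvable
import Mathlib.GroupTheory.Sylow

/-! Huppert's theorem on transitive solvable linear groups. -/

set_option autoImplicit false
set_option linter.style.haveILetI false

namespace Cfsg.Agent.Huppert

open Subgroup
open scoped commutatorElement

variable {G : Type*} [Group G] [Finite G]

/-- Inside a solvable group there is an abelian chief section above `A`. -/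
theorem exists_abelian_above [Group.IsSolvable G] (A : Subgroup G) [A.Normal] (K : Subgroup G) [K.Normal] (hAK : A < K) :
    ∃ N : Subgroup G, N.Normal ∧ A < N ∧ N ≤ K ∧ ⁅N, N⁆ ≤ A := by
  classical
  obtain ⟨N, ⟨hNn, hAN, hNK⟩, hmin⟩ := (wellFounded_lt (α := Subgroup G)).has_min
    {N : Subgroup G | N.Normal ∧ A < N ∧ N ≤ K} ⟨K, ‹K.Normal›, hAK, le_rfl⟩
  haveI := hNn
  refine ⟨N, hNn, hAN, hNK, ?_⟩
  by_contra hc
  set L := ⁅N, N⁆ ⊔ A
  have hLN : L = N := by
    have hle : L ≤ N := sup_le (commutator_le_right N N) hAN.le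
    refine hle.eq_of_not_lt fun hlt => hmin L ⟨inferInstance, lt_of_le_of_ne le_sup_right fun e => hc ?_,
      hle.trans hNK⟩ hlt
    exact le_sup_left.trans e.ge
  let π := QuotientGroup.mk' A
  have hperf : ⁅N.map π, N.map π⁆ = N.map π := by
    conv_rhs => rw [← hLN]
    rw [Subgroup.map_sup, map_commutator, (Subgroup.map_eq_bot_iff A).mpr (QuotientGroup.ker_mk' A).ge, sup_bot_eq]
  have hsolv : ∀ n, N.map π ≤ derivedSeries (G ⧸ A) n := by
    intro n
    induction n with
    | zero => exact le_top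
    | succ n ih => rw [derivedSeries_succ, ← hperf]; exact commutator_mono ih ih
  obtain ⟨n, hn⟩ := (Group.isSolvable_def (G ⧸ A)).mp inferInstance
  have := hsolv n
  rw [hn, le_bot_iff, Subgroup.map_eq_bot_iff, QuotientGroup.ker_mk'] at this
  exact hAN.not_ge this

/-- A largest normal subgroup of class two above `A`. -/
theorem exists_class_two [Group.IsSolvable G] (A : Subgroup G) [A.Normal] [IsCyclic A]
    (hA : ∀ a ∈ A, ∀ b ∈ A, a * b = b * a)
    (hmax : ∀ B : Subgroup G, B.Normal → (∀ a ∈ B, ∀ b ∈ B, a * b = b * a) → A ≤ B → B = A) :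
    ∃ M : Subgroup G, M.Normal ∧ Pairing A M ∧ M ≤ centralizer (A : Set G) ∧
      (∀ u ∈ M, (∀ v ∈ M, u * v = v * u) → u ∈ A) ∧
      (∀ g ∈ centralizer (A : Set G), (∀ v ∈ M, g * v = v * g) → g ∈ A) ∧
      (∀ g ∈ centralizer (A : Set G), (∀ v ∈ M, g * v * g⁻¹ * v⁻¹ ∈ A) → g ∈ M) ∧
      (centralizer (A : Set G) ≠ A → A < M) := by
  classical
  have hAC : A ≤ centralizer (A : Set G) := fun a ha => mem_centralizer_iff.mpr fun b hb => hA b hb a ha
  obtain ⟨M, hAM, hMmax⟩ := Finite.exists_le_maximal (α := Subgroup G)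
    (p := fun M => M.Normal ∧ M ≤ centralizer (A : Set G) ∧ ⁅M, M⁆ ≤ A) (a := A)
    ⟨‹A.Normal›, hAC, (commutator_le_self A)⟩
  obtain ⟨hMn, hMC, hMM⟩ := hMmax.prop
  haveI := hMn
  have hcomm : ∀ u ∈ M, ∀ v ∈ M, u * v * u⁻¹ * v⁻¹ ∈ A := fun u hu v hv => hMM (commutator_mem_commutator hu hv)
  have hnd : M ⊓ centralizer (M : Set G) = A := by
    refine hmax _ inferInstance (fun a ha b hb => mem_centralizer_iff.mp hb.2 a ha.1) (le_inf hAM fun a ha => ?_)
    exact mem_centralizer_iff.mpr fun v hv => (mem_centralizer_iff.mp (hMC hv) a ha).symm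
  have hD : centralizer (A : Set G) ⊓ centralizer (M : Set G) = A := by
    have hle : A ≤ centralizer (A : Set G) ⊓ centralizer (M : Set G) := le_inf hAC (hnd.ge.trans inf_le_right)
    refine le_antisymm ?_ hle
    by_contra hc
    obtain ⟨N, hNn, hAN, hND, hNN⟩ := exists_abelian_above A (centralizer (A : Set G) ⊓ centralizer (M : Set G))
      (lt_of_le_of_ne hle fun e => hc e.ge)
    haveI := hNn
    have hNM : ⁅N, M⁆ = ⊥ := commutator_eq_bot_iff_le_centralizer.mpr (hND.trans inf_le_right)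
    have hMN : ⁅M, N⁆ = ⊥ := by rw [commutator_comm]; exact hNM
    have hle2 : M ⊔ N ≤ M := hMmax.2 ⟨inferInstance, sup_le hMC (hND.trans inf_le_left), by
      rw [commutator_le]
      intro g hg k hk
      rw [← SetLike.mem_coe, normal_mul] at hg hk
      obtain ⟨m1, hm1, n1, hn1, rfl⟩ := hg
      obtain ⟨m2, hm2, n2, hn2, rfl⟩ := hk
      have cN : ∀ n ∈ N, ∀ w ∈ M, n * w = w * n := fun n hn w hw =>
        (mem_centralizer_iff.mp ((hND hn).2) w hw).symm
      have e : ⁅m1 * n1, m2 * n2⁆ = ⁅m1, m2⁆ * ⁅n1, n2⁆ := by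
        rw [commutatorElement_def, commutatorElement_def, commutatorElement_def]
        have c1 : Commute n1 m2 := cN n1 hn1 m2 hm2
        have c2 : Commute n2 m1 := cN n2 hn2 m1 hm1
        have c3 : Commute n1 m1 := cN n1 hn1 m1 hm1
        have c4 : Commute n2 m2 := cN n2 hn2 m2 hm2
        have cc : Commute (n1 * n2 * n1⁻¹ * n2⁻¹) m2⁻¹ :=
          (((c1.mul_left c4).mul_left c1.inv_left).mul_left c4.inv_left).inv_right
        calc m1 * n1 * (m2 * n2) * (m1 * n1)⁻¹ * (m2 * n2)⁻¹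
            = m1 * (n1 * m2) * n2 * n1⁻¹ * m1⁻¹ * n2⁻¹ * m2⁻¹ := by group
          _ = m1 * m2 * n1 * (n2 * n1⁻¹) * m1⁻¹ * n2⁻¹ * m2⁻¹ := by rw [c1.eq]; group
          _ = m1 * m2 * n1 * ((n2 * n1⁻¹) * m1⁻¹) * n2⁻¹ * m2⁻¹ := by group
          _ = m1 * m2 * (n1 * m1⁻¹) * n2 * n1⁻¹ * n2⁻¹ * m2⁻¹ := by
              rw [(c2.mul_left c3.inv_left).inv_right.eq]; group
          _ = m1 * m2 * m1⁻¹ * ((n1 * n2 * n1⁻¹ * n2⁻¹) * m2⁻¹) := by rw [c3.inv_right.eq]; group
          _ = _ := by rw [cc.eq]; group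
      rw [e]
      exact mul_mem (hMM (commutator_mem_commutator hm1 hm2)) (hNN (commutator_mem_commutator hn1 hn2))⟩ le_sup_left
    refine hAN.not_ge fun n hn => ?_
    rw [← hnd]
    exact ⟨hle2 (mem_sup_right hn), (hND hn).2⟩
  refine ⟨M, hMn, ⟨inferInstance, hAM, fun a ha v hv => mem_centralizer_iff.mp (hMC hv) a ha, hcomm⟩, hMC,
    fun u hu hc => hnd.le ⟨hu, mem_centralizer_iff.mpr fun v hv => (hc v hv).symm⟩,
    fun g hg hc => hD.le ⟨hg, mem_centralizer_iff.mpr fun v hv => (hc v hv).symm⟩, ?_, fun hne => ?_⟩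
  · intro g hg hgv
    set π := QuotientGroup.mk' A
    set K := centralizer (A : Set G) ⊓ (centralizer ((M.map π : Subgroup (G ⧸ A)) : Set (G ⧸ A))).comap π
    haveI : (M.map π).Normal := hMn.map π (QuotientGroup.mk'_surjective A)
    have hKmem : ∀ k, k ∈ K ↔ k ∈ centralizer (A : Set G) ∧ ∀ v ∈ M, k * v * k⁻¹ * v⁻¹ ∈ A := by
      intro k
      rw [mem_inf, mem_comap, mem_centralizer_iff (s := ((M.map π : Subgroup (G ⧸ A)) : Set (G ⧸ A)))]
      refine and_congr_right fun _ => ⟨fun h v hv => ?_, ?_⟩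
      · rw [← QuotientGroup.eq_one_iff (N := A)]
        have := h (π v) ⟨v, hv, rfl⟩
        show π (k * v * k⁻¹ * v⁻¹) = 1
        rw [map_mul, map_mul, map_mul, ← this, map_inv, map_inv]
        group
      · rintro h _ ⟨v, hv, rfl⟩
        have h1 : π (k * v * k⁻¹ * v⁻¹) = 1 := (QuotientGroup.eq_one_iff _).mpr (h v hv)
        rw [map_mul, map_mul, map_mul, map_inv, map_inv, mul_inv_eq_one, mul_inv_eq_iff_eq_mul] at h1
        exact h1.symm
    have hKn : K.Normal := inferInstance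
    have hMK : M ≤ K := fun v hv => (hKmem v).mpr ⟨hMC hv, fun w hw => hcomm v hv w hw⟩
    have hKM : ⁅K, M⁆ ≤ A := commutator_le.mpr fun k hk v hv => ((hKmem k).mp hk).2 v hv
    have hAK : ⁅A, K⁆ = ⊥ := by
      rw [commutator_comm]
      exact commutator_eq_bot_iff_le_centralizer.mpr inf_le_left
    have hKK : ⁅K, K⁆ ≤ A := by
      rw [← hD]
      refine le_inf ((commutator_le_self K).trans inf_le_left) ?_
      rw [← commutator_eq_bot_iff_le_centralizer]
      refine commutator_commutator_eq_bot_of_rotate ?_ ?_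
      · exact le_bot_iff.mp ((commutator_mono hKM le_rfl).trans hAK.le)
      · exact le_bot_iff.mp ((commutator_mono ((commutator_comm M K).le.trans hKM) le_rfl).trans hAK.le)
    exact hMmax.2 ⟨hKn, inf_le_left, hKK⟩ hMK ((hKmem g).mpr ⟨hg, hgv⟩)
  · refine lt_of_le_of_ne hAM fun e => hne ?_
    subst e
    rwa [inf_idem] at hD

/-- Primes of the index divide the order of `A`. -/
theorem dvd_card_of_dvd_index {A M : Subgroup G} (h : Pairing A M)
    (hnd : ∀ u ∈ M, (∀ v ∈ M, u * v = v * u) → u ∈ A) [A.Normal] {r : ℕ} (hr : r.Prime) (hd : r ∣ A.relIndex M) :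
    r ∣ Nat.card A := by
  haveI := Fact.mk hr
  obtain ⟨c, hc⟩ := exists_prime_orderOf_dvd_card' (G := M ⧸ A.subgroupOf M) r hd
  induction c using QuotientGroup.induction_on with
  | _ u =>
    have hu : (u : G) ∉ A := fun hu => by
      rw [(QuotientGroup.eq_one_iff u).mpr (mem_subgroupOf.mpr hu), orderOf_one] at hc
      exact hr.one_lt.ne hc
    obtain ⟨v, hv, hne⟩ : ∃ v ∈ M, (u : G) * v ≠ v * u := by
      by_contra hcon
      push Not at hcon
      exact hu (hnd u u.2 hcon)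
    have hur : (u : G) ^ r ∈ A := by
      have h1 : ((u ^ r : M) : M ⧸ A.subgroupOf M) = 1 := by
        rw [QuotientGroup.mk_pow, ← hc, pow_orderOf_eq_one]
      exact mem_subgroupOf.mp ((QuotientGroup.eq_one_iff _).mp h1)
    set a := (u : G) * v * (u : G)⁻¹ * v⁻¹ with ha
    have haA : a ∈ A := h.comm u u.2 v hv
    have hit : ∀ i : ℕ, (u : G) ^ i * v * ((u : G) ^ i)⁻¹ = a ^ i * v := by
      intro i
      induction i with
      | zero => simp
      | succ i ih =>
        calc (u : G) ^ (i + 1) * v * ((u : G) ^ (i + 1))⁻¹ = u * ((u : G) ^ i * v * ((u : G) ^ i)⁻¹) * (u : G)⁻¹ := by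
              rw [pow_succ']; group
          _ = ((u : G) * a ^ i) * v * (u : G)⁻¹ := by rw [ih]; group
          _ = a ^ i * ((u : G) * v * (u : G)⁻¹ * v⁻¹) * v := by rw [← h.central _ (pow_mem haA i) u u.2]; group
          _ = _ := by rw [← ha, pow_succ]
    have har : a ^ r = 1 := by
      have h1 := hit r
      rw [h.central _ hur v hv, mul_inv_cancel_right] at h1
      exact right_eq_mul.mp h1
    have ha1 : a ≠ 1 := fun e => hne (mul_inv_eq_iff_eq_mul.mp (mul_inv_eq_one.mp (ha ▸ e)))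
    rw [← orderOf_eq_prime har ha1]
    exact Subgroup.orderOf_mk a haA ▸ orderOf_dvd_natCard (⟨a, haA⟩ : A)

/-- Conjugation on the cosets of `A` in `M`. -/
@[reducible] def cosetAct (A M : Subgroup G) [A.Normal] [M.Normal] : MulAction G (M ⧸ A.subgroupOf M) where
  smul g := Quotient.map' (fun u : M => (⟨g * u * g⁻¹, ‹M.Normal›.conj_mem u u.2 g⟩ : M)) (fun a b hab => by
    rw [QuotientGroup.leftRel_apply, mem_subgroupOf] at hab ⊢
    push_cast at hab ⊢
    have h2 := ‹A.Normal›.conj_mem _ hab g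
    convert h2 using 1
    group)
  one_smul c := by
    induction c using QuotientGroup.induction_on with
    | _ u => exact congrArg QuotientGroup.mk (Subtype.ext (by simp))
  mul_smul a b c := by
    induction c using QuotientGroup.induction_on with
    | _ u => exact congrArg QuotientGroup.mk (Subtype.ext (by push_cast; group))

theorem cosetAct_fix {A M : Subgroup G} [A.Normal] [M.Normal] (g : G) (u : M) :
    letI := cosetAct A M
    g • (u : M ⧸ A.subgroupOf M) = (u : M ⧸ A.subgroupOf M) ↔ g * u * g⁻¹ * (u : G)⁻¹ ∈ A := by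
  letI := cosetAct A M
  have h1 : g • (u : M ⧸ A.subgroupOf M) = ((⟨g * u * g⁻¹, ‹M.Normal›.conj_mem u u.2 g⟩ : M) : M ⧸ A.subgroupOf M) := rfl
  rw [h1, QuotientGroup.eq, mem_subgroupOf]
  push_cast
  constructor
  · intro h
    have h2 := ‹A.Normal›.conj_mem _ (inv_mem h) (u : G)
    convert h2 using 1
    group
  · intro h
    have h2 := ‹A.Normal›.conj_mem _ (inv_mem h) (u : G)⁻¹
    convert h2 using 1
    group

/-- The action of the centralizer on a four-element section has image in `S_3`. -/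
theorem relIndex_dvd_six {A M : Subgroup G} [A.Normal] [M.Normal] (hN : A.relIndex M = 4)
    (hMC : M ≤ centralizer (A : Set G)) (hcomm : ∀ u ∈ M, ∀ v ∈ M, u * v * u⁻¹ * v⁻¹ ∈ A)
    (hK : ∀ g ∈ centralizer (A : Set G), (∀ v ∈ M, g * v * g⁻¹ * v⁻¹ ∈ A) → g ∈ M) :
    M.relIndex (centralizer (A : Set G)) ∣ 6 := by
  classical
  letI := cosetAct A M
  have hone : ∀ g : G, g • ((1 : M) : M ⧸ A.subgroupOf M) = ((1 : M) : M ⧸ A.subgroupOf M) := fun g =>
    (cosetAct_fix g 1).mpr (by simp [one_mem])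
  let X := {c : M ⧸ A.subgroupOf M // c ≠ ((1 : M) : M ⧸ A.subgroupOf M)}
  letI actX : MulAction G X :=
    { smul := fun g c => ⟨g • c.1, fun h => c.2 (smul_left_cancel g (h.trans (hone g).symm))⟩
      one_smul := fun c => Subtype.ext (one_smul G c.1)
      mul_smul := fun a b c => Subtype.ext (mul_smul a b c.1) }
  let ψ : centralizer (A : Set G) →* Equiv.Perm X :=
    (MulAction.toPermHom G X).comp (centralizer (A : Set G)).subtype
  have hker : ψ.ker = M.subgroupOf (centralizer (A : Set G)) := by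
    ext g
    rw [MonoidHom.mem_ker, mem_subgroupOf]
    constructor
    · intro hg
      refine hK g g.2 fun v hv => (cosetAct_fix (g : G) ⟨v, hv⟩).mp ?_
      by_cases hc : ((⟨v, hv⟩ : M) : M ⧸ A.subgroupOf M) = ((1 : M) : M ⧸ A.subgroupOf M)
      · rw [hc]; exact hone _
      · exact congrArg Subtype.val (Equiv.ext_iff.mp hg ⟨_, hc⟩)
    · intro hg
      refine Equiv.ext fun ⟨c, hc⟩ => Subtype.ext ?_
      induction c using QuotientGroup.induction_on with
      | _ u => exact (cosetAct_fix (g : G) u).mpr (hcomm g hg u u.2)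
  haveI := Fintype.ofFinite X
  have h3 : Nat.card X = 3 := by
    haveI := Fintype.ofFinite (M ⧸ A.subgroupOf M)
    rw [Nat.card_eq_fintype_card, Fintype.card_subtype_compl, Fintype.card_subtype_eq, ← Nat.card_eq_fintype_card]
    show A.relIndex M - 1 = 3
    omega
  show (M.subgroupOf (centralizer (A : Set G))).index ∣ 6
  rw [← hker, index_ker]
  refine (card_subgroup_dvd_card _).trans (dvd_of_eq ?_)
  rw [Nat.card_perm, h3]
  rfl

/-- A group of prime power order moving every nontrivial coset acts freely on them. -/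
theorem card_dvd_of_free {A M : Subgroup G} [A.Normal] [M.Normal] {s : ℕ} [Fact s.Prime] (hsA : ¬ s ∣ Nat.card A)
    (S : Subgroup G) (hS : IsPGroup s S) (hSC : S ≤ centralizer (A : Set G))
    (hfree : ∀ y ∈ S, orderOf y = s → ∀ v ∈ M, y * v = v * y → v ∈ A) :
    Nat.card S ∣ A.relIndex M - 1 := by
  classical
  letI := cosetAct A M
  let X := {c : M ⧸ A.subgroupOf M // c ≠ ((1 : M) : M ⧸ A.subgroupOf M)}
  have hone : ∀ g : G, g • ((1 : M) : M ⧸ A.subgroupOf M) = ((1 : M) : M ⧸ A.subgroupOf M) := fun g =>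
    (cosetAct_fix g 1).mpr (by simp [one_mem])
  letI actX : MulAction G X :=
    { smul := fun g c => ⟨g • c.1, fun h => c.2 (smul_left_cancel g (h.trans (hone g).symm))⟩
      one_smul := fun c => Subtype.ext (one_smul G c.1)
      mul_smul := fun a b c => Subtype.ext (mul_smul a b c.1) }
  have hstab : ∀ c : X, MulAction.stabilizer S c = ⊥ := by
    intro c
    rw [eq_bot_iff]
    intro g hg
    rw [mem_bot]
    by_contra hg1
    obtain ⟨k, hk⟩ := IsPGroup.iff_orderOf.1 hS g
    have hk0 : k ≠ 0 := by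
      rintro rfl
      rw [pow_zero, orderOf_eq_one_iff] at hk
      exact hg1 hk
    set y := g ^ s ^ (k - 1)
    have hyo : orderOf (y : G) = s := by
      rw [Subgroup.orderOf_coe, orderOf_pow, hk, Nat.gcd_eq_right (pow_dvd_pow s (by omega)),
        Nat.pow_div (by omega) (Fact.out : s.Prime).pos, show k - (k - 1) = 1 by omega, pow_one]
    have hyfix : y • c = c := pow_mem hg (s ^ (k - 1))
    obtain ⟨c, hc⟩ := c
    induction c using QuotientGroup.induction_on with
    | _ u =>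
      have hyu := (cosetAct_fix (y : G) u).mp (congrArg Subtype.val hyfix)
      set f := (y : G) * u * (y : G)⁻¹ * (u : G)⁻¹ with hf
      have hit : ∀ i : ℕ, (y : G) ^ i * u * ((y : G) ^ i)⁻¹ = f ^ i * u := by
        intro i
        induction i with
        | zero => simp
        | succ i ih =>
          have hyf : Commute (y : G) (f ^ i) := (mem_centralizer_iff.mp (hSC y.2) _ (pow_mem hyu i)).symm
          calc (y : G) ^ (i + 1) * u * ((y : G) ^ (i + 1))⁻¹ = y * ((y : G) ^ i * u * ((y : G) ^ i)⁻¹) * (y : G)⁻¹ := by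
                rw [pow_succ']; group
            _ = ((y : G) * f ^ i) * u * (y : G)⁻¹ := by rw [ih]; group
            _ = f ^ i * f * u := by rw [hyf.eq, hf]; group
            _ = _ := by rw [pow_succ]
      have h1 := hit s
      rw [← hyo, pow_orderOf_eq_one] at h1
      simp only [inv_one, one_mul, mul_one, right_eq_mul] at h1
      rw [hyo] at h1
      have hf1 : f = 1 := by
        by_contra hne
        refine hsA ?_
        rw [← orderOf_eq_prime h1 hne]
        exact Subgroup.orderOf_mk f hyu ▸ orderOf_dvd_natCard (⟨f, hyu⟩ : A)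
      have hyu' : (y : G) * u = u * y := mul_inv_eq_iff_eq_mul.mp (mul_inv_eq_one.mp (hf ▸ hf1))
      refine hc (QuotientGroup.eq.mpr ?_)
      rw [mem_subgroupOf, mul_one]
      exact inv_mem (hfree y y.2 hyo u u.2 hyu')
  haveI := Fintype.ofFinite X
  haveI := Fintype.ofFinite (Quotient (MulAction.orbitRel S X))
  have h1 : Nat.card X = A.relIndex M - 1 := by
    haveI := Fintype.ofFinite (M ⧸ A.subgroupOf M)
    rw [Nat.card_eq_fintype_card, Fintype.card_subtype_compl, Fintype.card_subtype_eq, ← Nat.card_eq_fintype_card]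
    rfl
  rw [← h1, Nat.card_congr (MulAction.selfEquivSigmaOrbitsQuotientStabilizer S X), Nat.card_sigma]
  refine Finset.dvd_sum fun ω _ => ?_
  rw [hstab, ← index_eq_card, index_bot]

theorem small_half {h : ℕ} (h3 : 3 ≤ h) : 4 * h + 1 < 3 ^ h := by
  induction h, h3 using Nat.le_induction with
  | base => norm_num
  | succ n hn ih => rw [pow_succ]; omega

set_option maxHeartbeats 1000000 in
/-- Huppert's theorem. -/
theorem huppert {q : ℕ} [Fact q.Prime] {V : Type*} [AddCommGroup V] [Module (ZMod q) V] [Finite V] [Nontrivial V]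
    (hsol : Group.IsSolvable G)
    (ρ : G →* (V ≃ₗ[ZMod q] V)) (hρ : Function.Injective ρ)
    (htrans : ∀ v w : V, v ≠ 0 → w ≠ 0 → ∃ g : G, ρ g v = w) :
    (∃ (F : Type) (_ : Field F) (_ : Fintype F) (e : V ≃+ F),
        ∀ g : G, ∃ (a : F) (σ : F ≃+* F), ∀ v : V, e (ρ g v) = a * σ (e v)) ∨
    Nat.card V ∈ ({9, 25, 49, 121, 529, 81} : Set ℕ) := by
  classical
  have hq : q.Prime := Fact.out
  haveI := hsol
  obtain ⟨v0, hv0⟩ := exists_ne (0 : V)
  have hdvd : Nat.card V - 1 ∣ Nat.card G := by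
    let act : MulAction G V := MulAction.compHom V ρ
    letI := act
    have horb : MulAction.orbit G v0 = {0}ᶜ := by
      ext w
      rw [Set.mem_compl_singleton_iff]
      constructor
      · rintro ⟨g, rfl⟩ h0
        exact hv0 ((ρ g).map_eq_zero_iff.mp h0)
      · intro hw
        obtain ⟨g, hg⟩ := htrans v0 w hv0 hw
        exact ⟨g, hg⟩
    have h1 := MulAction.index_stabilizer G v0
    rw [horb, Set.ncard_compl, Set.ncard_singleton] at h1
    exact h1 ▸ index_dvd_card _
  obtain ⟨A, -, hAmax⟩ := Finite.exists_le_maximal (α := Subgroup G)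
    (p := fun A => A.Normal ∧ ∀ x ∈ A, ∀ y ∈ A, x * y = y * x) (a := ⊥)
    ⟨inferInstance, fun x hx y hy => by rw [mem_bot.mp hx, mem_bot.mp hy]⟩
  obtain ⟨hAn, hA⟩ := hAmax.prop
  haveI := hAn
  have hmax : ∀ B : Subgroup G, B.Normal → (∀ a ∈ B, ∀ b ∈ B, a * b = b * a) → A ≤ B → B = A :=
    fun B hB hBc hAB => le_antisymm (hAmax.2 ⟨hB, hBc⟩ hAB) hAB
  obtain ⟨d, m, hd, hm, hVdm, hAdvd, hidx, hcyc, hbound, hone⟩ :=
    Nearfield.exists_degree ρ hρ htrans A hA
  haveI := hcyc
  rcases Nat.lt_or_ge m 2 with hm1 | hm2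
  · exact Or.inl (hone (by omega)).2
  right
  set Q := q ^ d with hQdef
  have hQd : d < Q := Nat.lt_pow_self hq.one_lt
  rw [hVdm] at hdvd
  set C := centralizer (A : Set G) with hC
  have hAC : A ≤ C := fun a ha => mem_centralizer_iff.mpr fun b hb => hA b hb a ha
  have hcardG : Nat.card G = C.index * Nat.card C := by rw [mul_comm, card_mul_index]
  have hQ1 : 0 < Q - 1 := by omega
  have hne : C ≠ A := by
    intro e
    have hle : Nat.card G ≤ d * (Q - 1) := by
      rw [hcardG]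
      refine Nat.mul_le_mul (Nat.le_of_dvd hd hidx) ?_
      rw [e]; exact Nat.le_of_dvd hQ1 hAdvd
    have h2 : Q ^ 2 ≤ Q ^ m := Nat.pow_le_pow_right (by omega) hm2
    have h3 : (Q + 1) * (Q - 1) ≤ d * (Q - 1) := by
      rw [show (Q + 1) * (Q - 1) = Q ^ 2 - 1 by rw [← Nat.sq_sub_sq, one_pow]]
      have := Nat.le_of_dvd Nat.card_pos hdvd
      omega
    have := Nat.le_of_mul_le_mul_right h3 hQ1
    omega
  obtain ⟨M, hMn, hP, hMC, hnd, hfaith, hK, hAM⟩ := exists_class_two A hA hmax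
  haveI := hMn
  have hAM' := hAM hne
  set N := A.relIndex M with hN
  have hNle : N ≤ m * m := hbound M hMC hP.comm hnd
  obtain ⟨kk, hkk⟩ : ∃ k, N = k * k := by
    obtain ⟨k, hk⟩ := exists_sq hP
    have e : M ⊓ centralizer (M : Set G) = A := le_antisymm
      (fun u hu => hnd u hu.1 fun v hv => (mem_centralizer_iff.mp hu.2 v hv).symm)
      (le_inf hP.le fun a ha => mem_centralizer_iff.mpr fun v hv => (hP.central a ha v hv).symm)
    exact ⟨k, by rw [hN, ← e]; exact hk⟩
  have hkk2 : 2 ≤ kk := by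
    by_contra hk
    interval_cases kk
    · exact index_ne_zero_of_finite (H := A.subgroupOf M) hkk
    · exact hAM'.not_ge (relIndex_eq_one.mp hkk)
  have hNdiv : ∀ r : ℕ, r.Prime → r ∣ N → r ∣ Nat.card A := fun r hr hd' => dvd_card_of_dvd_index hP hnd hr hd'
  have hMcard : Nat.card M = Nat.card A * N := by
    rw [hN, ← Nat.card_congr (subgroupOfEquivOfLe hP.le).toEquiv]
    exact ((A.subgroupOf M).card_mul_index).symm
  set n := d * m with hn
  have hVn : Nat.card V = q ^ n := by rw [hVdm, hQdef, hn, pow_mul]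
  have hQn : Q ^ m = q ^ n := by rw [← hVdm, hVn]
  have hdn : d < n := by
    rw [hn]; exact lt_mul_of_one_lt_right hd (by omega)
  -- a prime prime to `|M|` and the index moves `M`
  have hget : ∀ s : ℕ, s.Prime → s ∣ q ^ n - 1 → ¬ s ∣ Nat.card A → ¬ s ∣ C.index →
      ∃ x ∈ C, orderOf x = s := by
    intro s hs hsd hsA hsi
    haveI := Fact.mk hs
    have h1 : s ∣ Nat.card G := hsd.trans (hQn ▸ hdvd)
    rw [hcardG] at h1
    obtain ⟨x, hx⟩ := exists_prime_orderOf_dvd_card' (G := C) s ((hs.dvd_mul.mp h1).resolve_left hsi)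
    exact ⟨x, x.2, by rw [orderOf_coe, hx]⟩
  have hmoves : ∀ s : ℕ, s.Prime → ¬ s ∣ Nat.card A → ∀ x ∈ C, orderOf x = s →
      ¬ s ∣ Nat.card M ∧ (∀ a ∈ A, x * a = a * x) ∧ (∀ y ∈ M, x * y * x⁻¹ ∈ M) ∧ ∃ y ∈ M, x * y ≠ y * x := by
    intro s hs hsA x hxC hx
    refine ⟨fun h1 => ?_, fun a ha => (mem_centralizer_iff.mp hxC a ha).symm, fun y hy => hMn.conj_mem y hy x, ?_⟩
    · rw [hMcard] at h1
      exact (hs.dvd_mul.mp h1).elim hsA fun h2 => hsA (hNdiv s hs h2)
    · by_contra hc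
      push Not at hc
      have hxA := hfaith x hxC hc
      exact hsA (hx ▸ (Subgroup.orderOf_mk x hxA ▸ orderOf_dvd_natCard (⟨x, hxA⟩ : A)))
  -- the key bound for primitive primes
  have hprim : ∀ s : ℕ, s.Prime → s ∣ q ^ n - 1 → (∀ k, 0 < k → k < n → ¬ s ∣ q ^ k - 1) →
      d = 1 ∧ s = m + 1 ∧ N = m * m ∧ ¬ s ∣ Nat.card A ∧ (∃ x ∈ C, orderOf x = s) ∧
        ∀ x ∈ C, orderOf x = s → (∀ v ∈ M, x * v = v * x → v ∈ A) ∧
          ∀ Y : Subgroup G, A ≤ Y → Y ≤ M → (∀ y ∈ Y, x * y * x⁻¹ ∈ Y) → (∃ y ∈ Y, x * y ≠ y * x) → Y = M := by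
    intro s hs hsd hsp
    haveI := Fact.mk hs
    have hsn : n + 1 ≤ s := by
      by_contra hlt
      have hsq : ¬ s ∣ q := by
        intro h1
        have h2 : s ∣ q ^ n := dvd_pow h1 (by omega)
        have h3 := Nat.dvd_sub h2 hsd
        rw [Nat.sub_sub_self (Nat.one_le_pow _ _ hq.pos)] at h3
        exact hs.not_dvd_one h3
      refine hsp (s - 1) (by have := hs.two_le; omega) (by omega) ?_
      rw [← ZMod.natCast_eq_zero_iff, Nat.cast_sub (Nat.one_le_pow _ _ hq.pos), Nat.cast_pow, Nat.cast_one,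
        ZMod.pow_card_sub_one_eq_one (by rwa [Ne, ZMod.natCast_eq_zero_iff]), sub_self]
    have hsA : ¬ s ∣ Nat.card A := fun h1 => hsp d hd hdn (h1.trans hAdvd)
    have hsi : ¬ s ∣ C.index := fun h1 => by
      have := Nat.le_of_dvd hd (h1.trans hidx); omega
    have hall : ∀ x ∈ C, orderOf x = s → ∀ Y : Subgroup G, A ≤ Y → Y ≤ M → (∀ y ∈ Y, x * y * x⁻¹ ∈ Y) →
        (∃ y ∈ Y, x * y ≠ y * x) → d = 1 ∧ s = m + 1 ∧ N = m * m ∧ Y = M ∧ (∀ v ∈ M, x * v = v * x → v ∈ A) := by
      intro x hxC hx Y h1 h2 h3 h4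
      obtain ⟨hsM, hxA, -, -⟩ := hmoves s hs hsA x hxC hx
      obtain ⟨k, hk2, hkN, hk⟩ := exists_piece hP hnd hs hx hsM hxA Y h1 h2 h3 h4
      have hkm : k ≤ m := Nat.mul_self_le_mul_self_iff.mp (hkN.trans hNle)
      have hnm : m ≤ n := by rw [hn]; exact Nat.le_mul_of_pos_left m hd
      rcases hk with hk | ⟨hk, hkeq⟩
      · exfalso
        have := Nat.le_of_dvd (by omega) hk
        omega
      · have hsk : s ≤ k + 1 := by
          rw [show k * k - 1 = (k + 1) * (k - 1) by simpa using Nat.mul_self_sub_mul_self_eq k 1] at hk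
          rcases hs.dvd_mul.mp hk with h5 | h5
          · exact Nat.le_of_dvd (by omega) h5
          · have := Nat.le_of_dvd (by omega) h5; omega
        have hkm' : k = m := by omega
        have hnm' : d * m = 1 * m := by rw [← hn]; omega
        subst hkm'
        have hNeq : N = k * k := le_antisymm hNle hkN
        obtain ⟨hY, hfix⟩ := hkeq hNeq.symm
        exact ⟨Nat.eq_of_mul_eq_mul_right hm hnm', by omega, hNeq, hY, hfix⟩
    obtain ⟨x, hxC, hx⟩ := hget s hs hsd hsA hsi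
    obtain ⟨-, -, hxM, hmv⟩ := hmoves s hs hsA x hxC hx
    obtain ⟨h1, h2, h3, -, -⟩ := hall x hxC hx M hP.le le_rfl hxM hmv
    refine ⟨h1, h2, h3, hsA, ⟨x, hxC, hx⟩, fun y hyC hy => ?_⟩
    obtain ⟨-, -, hyM, hmv'⟩ := hmoves s hs hsA y hyC hy
    exact ⟨(hall y hyC hy M hP.le le_rfl hyM hmv').2.2.2.2, fun Y a b c e => (hall y hyC hy Y a b c e).2.2.2.1⟩
  by_cases hn2 : n = 2
  · -- dimension two
    obtain ⟨rfl, rfl⟩ : d = 1 ∧ m = 2 := by
      have h1 : m ≤ n := by rw [hn]; exact Nat.le_mul_of_pos_left m hd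
      obtain rfl : m = 2 := by omega
      omega
    rw [hQdef, pow_one] at hVdm hAdvd hdvd hQ1
    have hN4 : N = 4 := by
      have := Nat.mul_le_mul hkk2 hkk2
      omega
    have hL := relIndex_dvd_six hN4 hMC hP.comm hK
    have hCeq : Nat.card C = Nat.card M * M.relIndex C := by
      rw [← Nat.card_congr (subgroupOfEquivOfLe hMC).toEquiv]
      exact ((M.subgroupOf C).card_mul_index).symm
    have hq2 : q ≠ 2 := by
      intro h
      have h2 := (hNdiv 2 Nat.prime_two (by rw [hN4]; norm_num)).trans hAdvd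
      rw [h] at h2
      norm_num at h2
    have hdiv : q + 1 ∣ 24 := by
      have h1 : Nat.card G ∣ (q - 1) * 24 := by
        rw [hcardG, Nat.eq_one_of_dvd_one hidx, one_mul, hCeq, hMcard, hN4, mul_assoc]
        exact Nat.mul_dvd_mul hAdvd (Nat.mul_dvd_mul_left 4 hL)
      have h2 := hdvd.trans h1
      rw [show q ^ 2 - 1 = (q - 1) * (q + 1) by rw [mul_comm, ← Nat.sq_sub_sq, one_pow]] at h2
      exact Nat.dvd_of_mul_dvd_mul_left hQ1 h2
    have hle := Nat.le_of_dvd (by norm_num) hdiv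
    have hq23 : q ≤ 23 := by omega
    rw [hVdm]
    have hcases : q = 3 ∨ q = 5 ∨ q = 7 ∨ q = 11 ∨ q = 23 := by
      interval_cases q <;> first | omega | (revert hq hdiv; decide)
    rcases hcases with rfl | rfl | rfl | rfl | rfl <;> norm_num
  have hn3 : 3 ≤ n := by omega
  by_cases h26 : q = 2 ∧ n = 6
  · exfalso
    obtain ⟨rfl, hn6⟩ := h26
    have hA7 : Nat.card A ∣ 2 ^ d - 1 := hAdvd
    obtain ⟨r, hr, hrN⟩ := Nat.exists_prime_and_dvd (show N ≠ 1 by
      rw [hkk]; intro h; have := Nat.eq_one_of_mul_eq_one_left h; omega)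
    have hrA := (hNdiv r hr hrN).trans hA7
    have hd3 : d = 1 ∨ d = 2 ∨ d = 3 := by
      have h1 : d * m = 6 := hn6
      have h2 : d * 2 ≤ d * m := Nat.mul_le_mul_left d hm2
      omega
    rcases hd3 with rfl | rfl | rfl
    · norm_num at hrA
      exact hr.ne_one hrA
    · have hm3 : m = 3 := by omega
      subst hm3
      have hA3 : Nat.card A ∣ 3 := hA7
      obtain ⟨x, hxC, hx⟩ := hget 7 (by norm_num) (by rw [hn6]; norm_num)
        (fun h => by have := h.trans hA3; norm_num at this)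
        (fun h => by have := h.trans hidx; norm_num at this)
      obtain ⟨hsM, hxA, hxM, hmv⟩ := hmoves 7 (by norm_num) (fun h => by have := h.trans hA3; norm_num at this) x hxC hx
      obtain ⟨k, hk2, hkN, hk⟩ := exists_piece hP hnd (by norm_num) hx hsM hxA M hP.le le_rfl hxM hmv
      have hk3 : k ≤ 3 := Nat.mul_self_le_mul_self_iff.mp (hkN.trans hNle)
      interval_cases k <;> rcases hk with hk | ⟨hk, -⟩ <;> norm_num at hk
    · have hm' : m = 2 := by omega
      subst hm'
      have hk' : kk ≤ 2 := Nat.mul_self_le_mul_self_iff.mp (hkk ▸ hNle)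
      obtain rfl : kk = 2 := by omega
      have h2 := (hNdiv 2 Nat.prime_two (by rw [hkk]; norm_num)).trans hA7
      norm_num at h2
  obtain ⟨s, hs, hsd, hsp⟩ := Zsigmondy.exists_primitive hq.one_lt (by omega : 1 < n) h26 (by omega)
  haveI := Fact.mk hs
  obtain ⟨rfl, hsm, hNm, hsA, ⟨x, hxC, hx⟩, hspec⟩ := hprim s hs hsd hsp
  have hnm : n = m := by rw [hn, one_mul]
  obtain ⟨hxfix, hxY⟩ := hspec x hxC hx
  rw [hQdef, pow_one] at hAdvd
  -- `m` is even
  have hmeven : 2 ∣ m := by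
    rcases hs.eq_two_or_odd with h | h <;> omega
  have h2A : 2 ∣ Nat.card A := hNdiv 2 Nat.prime_two (by rw [hNm]; exact hmeven.mul_right m)
  have hqodd : q % 2 = 1 := by
    have h1 := h2A.trans hAdvd
    have := hq.two_le
    omega
  -- `M/A` is elementary
  let Y : Subgroup G :=
    { carrier := {v | v ∈ M ∧ v * v ∈ A}
      one_mem' := ⟨one_mem M, by simp⟩
      mul_mem' := fun {u v} hu hv => ⟨mul_mem hu.1 hv.1, by
        have hc := hP.comm v hv.1 u hu.1
        have e : u * v * (u * v) = u * (v * u * v⁻¹ * u⁻¹) * u * (v * v) := by group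
        rw [e, ← hP.central _ hc u hu.1, mul_assoc (v * u * v⁻¹ * u⁻¹) u u]
        exact mul_mem (mul_mem hc hu.2) hv.2⟩
      inv_mem' := fun {u} hu => ⟨inv_mem hu.1, by
        have := inv_mem hu.2
        rwa [mul_inv_rev] at this⟩ }
  have hAY : A ≤ Y := fun a ha => ⟨hP.le ha, mul_mem ha ha⟩
  have hYM : Y ≤ M := fun v hv => hv.1
  have hxYinv : ∀ y ∈ Y, x * y * x⁻¹ ∈ Y := fun y hy => ⟨hMn.conj_mem y hy.1 x, by
    have := hAn.conj_mem _ hy.2 x
    convert this using 1
    group⟩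
  haveI : Fact (Nat.Prime 2) := ⟨Nat.prime_two⟩
  obtain ⟨c, hc⟩ := exists_prime_orderOf_dvd_card' (G := M ⧸ A.subgroupOf M) 2
    (by show 2 ∣ A.relIndex M; rw [← hN, hNm]; exact hmeven.mul_right m)
  obtain ⟨u, rfl⟩ := QuotientGroup.mk_surjective c
  have huA : (u : G) ∉ A := fun hu => by
    rw [(QuotientGroup.eq_one_iff u).mpr (mem_subgroupOf.mpr hu), orderOf_one] at hc
    norm_num at hc
  have huY : (u : G) ∈ Y := ⟨u.2, by
    have h1 : ((u ^ 2 : M) : M ⧸ A.subgroupOf M) = 1 := by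
      rw [QuotientGroup.mk_pow, ← hc, pow_orderOf_eq_one]
    have h2 := mem_subgroupOf.mp ((QuotientGroup.eq_one_iff _).mp h1)
    rwa [SubgroupClass.coe_pow, pow_two] at h2⟩
  have hYeq : Y = M := hxY Y hAY hYM hxYinv ⟨u, huY, fun h => huA (hxfix u u.2 h)⟩
  have hW : IsPGroup 2 (M ⧸ A.subgroupOf M) := by
    intro c
    induction c using QuotientGroup.induction_on with
    | _ w =>
      refine ⟨1, ?_⟩
      rw [pow_one, ← QuotientGroup.mk_pow, QuotientGroup.eq_one_iff, mem_subgroupOf, SubgroupClass.coe_pow, pow_two]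
      exact ((hYeq.ge w.2 : (w : G) ∈ Y)).2
  obtain ⟨j, hj⟩ := IsPGroup.iff_card.mp hW
  obtain ⟨a, -, ha⟩ := (Nat.dvd_prime_pow Nat.prime_two).mp
    (show m ∣ 2 ^ j by rw [← hj]; show m ∣ A.relIndex M; rw [← hN, hNm]; exact dvd_mul_left m m)
  have ha2 : 2 ≤ a := by
    by_contra h
    have : m ≤ 2 := by rw [ha]; exact (Nat.pow_le_pow_right (by norm_num) (by omega : a ≤ 1))
    omega
  obtain ⟨b, rfl⟩ : ∃ b, a = b + 2 := ⟨a - 2, by omega⟩
  set h4 := 2 ^ b with hh4
  have hm4 : m = 4 * h4 := by rw [ha, pow_add, hh4]; ring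
  set t := q ^ (2 * h4) + 1 with ht
  have htd : t ∣ q ^ n - 1 := by
    refine ⟨q ^ (2 * h4) - 1, ?_⟩
    rw [ht, ← Nat.sq_sub_sq, one_pow, ← pow_mul, hnm, hm4, show 2 * h4 * 2 = 4 * h4 by ring]
  have hsq : ¬ s * s ∣ q ^ n - 1 := by
    intro h1
    have h2 : s * s ∣ Nat.card C := by
      have h3 := h1.trans (hQn ▸ hdvd)
      rwa [hcardG, Nat.eq_one_of_dvd_one hidx, one_mul] at h3
    obtain ⟨S, hS⟩ := Sylow.exists_subgroup_card_pow_prime (G := C) s (n := 2) (by rw [pow_two]; exact h2)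
    have hS' : Nat.card (S.map C.subtype) = s ^ 2 := by
      rw [Subgroup.card_subtype]; exact hS
    have h4 := card_dvd_of_free (A := A) (M := M) hsA (S.map C.subtype) (IsPGroup.of_card hS')
      (map_subtype_le S) (fun y hy hyo => (hspec y (map_subtype_le S hy) hyo).1)
    rw [hS', ← hN, hNm, pow_two, show m * m - 1 = s * (m - 1) by
      rw [hsm]; simpa using Nat.mul_self_sub_mul_self_eq m 1] at h4
    have h5 := Nat.dvd_of_mul_dvd_mul_left hs.pos h4
    have := Nat.le_of_dvd (by omega) h5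
    omega
  obtain ⟨w, hw⟩ : Odd (q ^ h4) := (Nat.odd_iff.mpr hqodd).pow
  have htu : t = 2 * (2 * w * w + 2 * w + 1) := by rw [ht, mul_comm 2 h4, pow_mul, hw]; ring
  set u := 2 * w * w + 2 * w + 1 with hu
  have hus : ∀ {l : ℕ}, l.Prime → l ∣ u → l = s := by
    intro l hl hlu
    haveI := Fact.mk hl
    have hl2 : l ≠ 2 := by
      rintro rfl
      rw [hu] at hlu
      rw [show 2 * w * w + 2 * w + 1 = 2 * (w * w + w) + 1 by ring] at hlu
      omega
    have hlt : l ∣ t := htu ▸ hlu.mul_left 2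
    have hln : l ∣ q ^ n - 1 := hlt.trans htd
    refine ((hprim l hl hln fun k hk0 hkn hk => ?_).2.1).trans hsm.symm
    have hqk : (q : ZMod l) ^ k = 1 := by
      rw [← ZMod.natCast_eq_zero_iff, Nat.cast_sub (Nat.one_le_pow _ _ hq.pos), Nat.cast_pow, Nat.cast_one,
        sub_eq_zero] at hk
      exact hk
    have hm1 : (q : ZMod l) ^ (2 * h4) = -1 := by
      have : ((t : ℕ) : ZMod l) = 0 := (ZMod.natCast_eq_zero_iff _ _).mpr hlt
      rw [ht, Nat.cast_add, Nat.cast_pow, Nat.cast_one] at this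
      exact eq_neg_of_add_eq_zero_left this
    have hneg : (-1 : ZMod l) ≠ 1 := by
      intro e
      have : ((2 : ℕ) : ZMod l) = 0 := by push_cast; linear_combination -e
      exact hl2 ((Nat.prime_dvd_prime_iff_eq hl Nat.prime_two).mp ((ZMod.natCast_eq_zero_iff _ _).mp this))
    have hom : orderOf (q : ZMod l) ∣ 2 ^ (b + 2) := by
      refine orderOf_dvd_of_pow_eq_one ?_
      rw [show (2 : ℕ) ^ (b + 2) = 2 * h4 * 2 by rw [pow_add, hh4]; ring, pow_mul, hm1, neg_one_sq]
    obtain ⟨i, hi, hio⟩ := (Nat.dvd_prime_pow Nat.prime_two).mp hom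
    have hie : i = b + 2 := by
      by_contra hne'
      apply hneg
      rw [← hm1]
      refine orderOf_dvd_iff_pow_eq_one.mp ?_
      rw [hio, hh4, ← pow_succ']
      exact pow_dvd_pow 2 (by omega)
    have hke : 2 ^ (b + 2) ∣ k := by
      rw [← hie, ← hio]; exact orderOf_dvd_of_pow_eq_one hqk
    have := Nat.le_of_dvd hk0 hke
    omega
  have hu_le : u ≤ s := by
    have h1 : u = s ^ u.primeFactorsList.length :=
      Nat.eq_prime_pow_of_unique_prime_dvd (p := s) (by omega) (fun {l} hl hlu => hus hl hlu)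
    rcases hL' : u.primeFactorsList.length with _ | _ | e
    · rw [h1, hL', pow_zero]; exact hs.one_le
    · rw [h1, hL', pow_one]
    · exfalso
      refine hsq (dvd_trans ?_ htd)
      rw [htu]
      refine Dvd.dvd.mul_left ?_ 2
      rw [h1, hL', ← pow_two]
      exact pow_dvd_pow s (by omega)
  have h3q : 3 ≤ q := by have := hq.two_le; omega
  have hb0 : h4 = 1 := by
    by_contra hne'
    have hpos : 0 < h4 := by rw [hh4]; positivity
    have h5 : 3 ^ (2 * h4) + 1 ≤ t := by
      rw [ht]; exact Nat.add_le_add_right (Nat.pow_le_pow_left h3q _) 1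
    have h6 := small_half (h := 2 * h4) (by omega)
    omega
  rw [hb0] at hm4 ht
  have ht10 : t ≤ 10 := by omega
  rw [ht] at ht10
  have hq3 : q = 3 := by
    rw [show 2 * 1 = 2 from rfl, pow_two] at ht10
    nlinarith
  rw [hVn, hnm, hm4, hq3]
  norm_num

end Cfsg.Agent.Huppert
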