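import Cfsg.Agent.EqLemmas
import Mathlib.RingTheory.RootsOfUnity.Complex
import Mathlib.LinearAlgebra.LinearIndependent.Lemmas
import Mathlib.GroupTheory.PGroup
import Mathlib.GroupTheory.SpecificGroups.Cyclic

/-! Subgroups with commutators in a central cyclic subgroup, and automorphisms of coprime prime order. -/

set_option autoImplicit false
set_option linter.style.haveILetI false

namespace Cfsg.Agent.Huppert

open Subgroup

/-- A cyclic group receives at most `|W|` homomorphisms from `W`. -/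
theorem card_monoidHom_le {W C : Type*} [Group W] [Finite W] [CommGroup C] [Finite C] [IsCyclic C] :
    Nat.card (W →* C) ≤ Nat.card W := by
  classical
  haveI : NeZero (Nat.card C) := ⟨Nat.card_pos.ne'⟩
  let e : C ≃* rootsOfUnity (Nat.card C) ℂ := mulEquivOfCyclicCardEq (Complex.card_rootsOfUnity _).symm
  let emb : C →* ℂ := ((Units.coeHom ℂ).comp (rootsOfUnity (Nat.card C) ℂ).subtype).comp e.toMonoidHom
  have hemb : Function.Injective emb := Units.val_injective.comp (Subtype.val_injective.comp e.injective)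
  let F : (W →* C) → (W →* ℂ) := fun f => emb.comp f
  have hF : Function.Injective F := fun f g h => MonoidHom.ext fun w => hemb (DFunLike.congr_fun h w)
  haveI := Fintype.ofFinite W
  haveI : Finite (W →* C) := Finite.of_injective _ DFunLike.coe_injective
  haveI := Fintype.ofFinite (W →* C)
  have hle := ((linearIndependent_monoidHom W ℂ).comp F hF).fintype_card_le_finrank
  rwa [Module.finrank_fintype_fun_eq_card, ← Nat.card_eq_fintype_card, ← Nat.card_eq_fintype_card] at hle

theorem card_range_le_flip {X Y C : Type*} [Group X] [Finite X] [Group Y] [Finite Y] [CommGroup C] [Finite C]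
    [IsCyclic C] (β : X →* (Y →* C)) : Nat.card β.range ≤ Nat.card β.flip.range := by
  haveI : Finite (X →* C) := Finite.of_injective _ DFunLike.coe_injective
  haveI : Finite (β.flip.range →* C) := Finite.of_injective _ DFunLike.coe_injective
  let ev : X →* (β.flip.range →* C) := MonoidHom.mk' (fun v => MonoidHom.mk' (fun g => (g : X →* C) v)
    (fun g g' => rfl)) (fun v w => MonoidHom.ext fun g => map_mul (g : X →* C) v w)
  have hker : ev.ker = β.ker := by
    ext v
    constructor
    · intro h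
      exact MonoidHom.ext fun y => DFunLike.congr_fun (show ev v = 1 from h) ⟨β.flip y, y, rfl⟩
    · intro h
      refine MonoidHom.ext fun g => ?_
      obtain ⟨y, hy⟩ := g.2
      show (g : X →* C) v = 1
      rw [← hy]
      exact DFunLike.congr_fun (show β v = 1 from h) y
  calc Nat.card β.range = Nat.card ev.range := by rw [← index_ker, ← index_ker, hker]
    _ ≤ Nat.card (β.flip.range →* C) := card_le_card_group _
    _ ≤ _ := card_monoidHom_le

/-- Both sides of a pairing into a cyclic group have the same index. -/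
theorem card_range_flip {X Y C : Type*} [Group X] [Finite X] [Group Y] [Finite Y] [CommGroup C] [Finite C]
    [IsCyclic C] (β : X →* (Y →* C)) : Nat.card β.range = Nat.card β.flip.range :=
  le_antisymm (card_range_le_flip β) (card_range_le_flip β.flip)

variable {G : Type*} [Group G] [Finite G]

/-- What is used about `A ≤ M`. -/
structure Pairing (A M : Subgroup G) : Prop where
  cyc : IsCyclic A
  le : A ≤ M
  central : ∀ a ∈ A, ∀ v ∈ M, a * v = v * a
  comm : ∀ u ∈ M, ∀ v ∈ M, u * v * u⁻¹ * v⁻¹ ∈ A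

/-- The elements of `M` commuting with all of `L`. -/
abbrev perp (M L : Subgroup G) : Subgroup G := M ⊓ centralizer (L : Set G)

theorem perp_index {A M : Subgroup G} (h : Pairing A M) {L : Subgroup G} (hLM : L ≤ M) :
    (perp M L).relIndex M = (L ⊓ centralizer (M : Set G)).relIndex L := by
  haveI := h.cyc
  letI : CommGroup A := IsCyclic.commGroup
  have hmul1 : ∀ v v' l : G, v ∈ M → v' ∈ M → l ∈ M →
      v * v' * l * (v * v')⁻¹ * l⁻¹ = (v * l * v⁻¹ * l⁻¹) * (v' * l * v'⁻¹ * l⁻¹) := by
    intro v v' l hv hv' hl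
    have hc := h.central _ (h.comm v' hv' l hl) (v * l * v⁻¹) (mul_mem (mul_mem hv hl) (inv_mem hv))
    have hc2 := h.central _ (h.comm v' hv' l hl) v hv
    calc v * v' * l * (v * v')⁻¹ * l⁻¹ = v * (v' * l * v'⁻¹ * l⁻¹) * (l * v⁻¹ * l⁻¹) := by group
      _ = (v' * l * v'⁻¹ * l⁻¹) * (v * l * v⁻¹ * l⁻¹) := by rw [← hc2]; group
      _ = _ := h.central _ (h.comm v' hv' l hl) _ (h.le (h.comm v hv l hl))
  have hmul2 : ∀ v l l' : G, v ∈ M → l ∈ M → l' ∈ M →
      v * (l * l') * v⁻¹ * (l * l')⁻¹ = (v * l * v⁻¹ * l⁻¹) * (v * l' * v⁻¹ * l'⁻¹) := by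
    intro v l l' hv hl hl'
    have hc := h.central _ (h.comm v hv l' hl') l hl
    calc v * (l * l') * v⁻¹ * (l * l')⁻¹ = v * l * v⁻¹ * (v * l' * v⁻¹ * l'⁻¹) * l⁻¹ := by group
      _ = v * l * v⁻¹ * (l⁻¹ * l) * (v * l' * v⁻¹ * l'⁻¹) * l⁻¹ := by group
      _ = v * l * v⁻¹ * l⁻¹ * (l * (v * l' * v⁻¹ * l'⁻¹)) * l⁻¹ := by group
      _ = _ := by rw [← hc]; group
  let β : M →* (L →* A) := MonoidHom.mk' (fun v => MonoidHom.mk'
      (fun l => (⟨(v : G) * l * (v : G)⁻¹ * (l : G)⁻¹, h.comm _ v.2 _ (hLM l.2)⟩ : A))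
      (fun l l' => Subtype.ext (hmul2 _ _ _ v.2 (hLM l.2) (hLM l'.2))))
    (fun v v' => MonoidHom.ext fun l => Subtype.ext (hmul1 _ _ _ v.2 v'.2 (hLM l.2)))
  have hcomm_iff : ∀ a b : G, a * b * a⁻¹ * b⁻¹ = 1 ↔ a * b = b * a := fun a b => by
    rw [mul_inv_eq_one, mul_inv_eq_iff_eq_mul]
  have hk1 : β.ker = (perp M L).subgroupOf M := by
    ext v
    rw [mem_subgroupOf, mem_inf, mem_centralizer_iff]
    constructor
    · intro hv
      refine ⟨v.2, fun l hl => ((hcomm_iff _ _).mp ?_).symm⟩
      exact congrArg Subtype.val (DFunLike.congr_fun (show β v = 1 from hv) ⟨l, hl⟩)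
    · intro hv
      exact MonoidHom.ext fun l => Subtype.ext ((hcomm_iff _ _).mpr (hv.2 l l.2).symm)
  have hk2 : β.flip.ker = (L ⊓ centralizer (M : Set G)).subgroupOf L := by
    ext l
    rw [mem_subgroupOf, mem_inf, mem_centralizer_iff]
    constructor
    · intro hl
      refine ⟨l.2, fun v hv => (hcomm_iff _ _).mp ?_⟩
      exact congrArg Subtype.val (DFunLike.congr_fun (show β.flip l = 1 from hl) ⟨v, hv⟩)
    · intro hl
      exact MonoidHom.ext fun v => Subtype.ext ((hcomm_iff _ _).mpr (hl.2 v v.2))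
  have h1 := card_range_flip β
  rw [← index_ker, ← index_ker, hk1, hk2] at h1
  exact h1

/-- The index of the centre is a square. -/
theorem exists_sq {A M : Subgroup G} (h : Pairing A M) :
    ∃ k, (M ⊓ centralizer (M : Set G)).relIndex M = k * k := by
  set R := M ⊓ centralizer (M : Set G)
  have hRc : ∀ x ∈ R, ∀ y ∈ R, x * y = y * x := fun x hx y hy => (mem_centralizer_iff.mp hy.2 x hx.1)
  obtain ⟨L, hRL, hLmax⟩ := Finite.exists_le_maximal (α := Subgroup G)
    (p := fun L => L ≤ M ∧ ∀ x ∈ L, ∀ y ∈ L, x * y = y * x) (a := R) ⟨inf_le_left, hRc⟩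
  obtain ⟨hLM, hLc⟩ := hLmax.prop
  have hperp : perp M L = L := by
    refine le_antisymm (fun v hv => ?_) (le_inf hLM fun x hx => mem_centralizer_iff.mpr fun y hy => hLc y hy x hx)
    have hc : ∀ x ∈ insert v (L : Set G), ∀ y ∈ insert v (L : Set G), x * y = y * x := by
      rintro x (rfl | hx) y (rfl | hy)
      · rfl
      · exact (mem_centralizer_iff.mp hv.2 y hy).symm
      · exact mem_centralizer_iff.mp hv.2 x hx
      · exact hLc x hx y hy
    haveI : IsMulCommutative (closure (insert v (L : Set G))) := isMulCommutative_closure hc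
    have hle : L ≤ closure (insert v (L : Set G)) := fun x hx => subset_closure (Set.mem_insert_of_mem _ hx)
    refine hLmax.2 ⟨(closure_le _).mpr (Set.insert_subset_iff.mpr ⟨hv.1, hLM⟩), fun x hx y hy => ?_⟩ hle
      (subset_closure (Set.mem_insert v _))
    exact congrArg Subtype.val (IsMulCommutative.is_comm.comm (⟨x, hx⟩ : closure (insert v (L : Set G))) ⟨y, hy⟩)
  refine ⟨L.relIndex M, ?_⟩
  have h1 := perp_index h hLM
  rw [hperp] at h1
  have hR : L ⊓ centralizer (M : Set G) = R := by
    refine le_antisymm (inf_le_inf_right _ hLM) (le_inf hRL inf_le_right)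
  rw [hR] at h1
  rw [← relIndex_mul_relIndex R L M hRL hLM, ← h1]

/-- Fixed cosets of an element of coprime prime order are fixed points. -/
theorem card_modEq_one {U F : Subgroup G} (hFU : F ≤ U) {x : G} {s : ℕ} (hs : s.Prime) (hx : orderOf x = s)
    (hsU : ¬ s ∣ Nat.card U) (hxU : ∀ u ∈ U, x * u * x⁻¹ ∈ U) (hF : ∀ u ∈ U, u ∈ F ↔ x * u = u * x) :
    F.relIndex U ≡ 1 [MOD s] := by
  classical
  haveI := Fact.mk hs
  have hnorm : x ∈ normalizer (U : Set G) := Subgroup.mem_normalizer_fintype hxU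
  have hpU : ∀ p : zpowers x, ∀ u ∈ U, (p : G) * u * (p : G)⁻¹ ∈ U := fun p u hu =>
    (mem_normalizer_iff.mp (zpowers_le.mpr hnorm p.2) u).mp hu
  have hpF : ∀ p : zpowers x, ∀ f ∈ F, (p : G) * f = f * (p : G) := by
    intro p f hf
    obtain ⟨i, hi⟩ := mem_zpowers_iff.mp p.2
    rw [← hi]
    exact (Commute.zpow_left (show Commute x f from (hF f (hFU hf)).mp hf) i).eq
  letI act : MulAction (zpowers x) (U ⧸ F.subgroupOf U) :=
    { smul := fun p => Quotient.map' (fun u : U => (⟨(p : G) * u * (p : G)⁻¹, hpU p u u.2⟩ : U)) (fun a b hab => by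
        rw [QuotientGroup.leftRel_apply, mem_subgroupOf] at hab ⊢
        have := hpF p _ hab
        push_cast at this ⊢
        rw [show ((p : G) * a * (p : G)⁻¹)⁻¹ * ((p : G) * b * (p : G)⁻¹) = (p : G) * ((a : G)⁻¹ * b) * (p : G)⁻¹ by group,
          this, mul_inv_cancel_right]
        exact hab)
      one_smul := fun c => by
        induction c using QuotientGroup.induction_on with
        | _ u => exact congrArg (QuotientGroup.mk) (Subtype.ext (by simp))
      mul_smul := fun a b c => by
        induction c using QuotientGroup.induction_on with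
        | _ u => exact congrArg (QuotientGroup.mk) (Subtype.ext (by push_cast; group)) }
  have hP : IsPGroup s (zpowers x) := IsPGroup.of_card (n := 1) (by rw [Nat.card_zpowers, hx, pow_one])
  have hmod := hP.card_modEq_card_fixedPoints (U ⧸ F.subgroupOf U)
  have hone : Nat.card (MulAction.fixedPoints (zpowers x) (U ⧸ F.subgroupOf U)) = 1 := by
    rw [Nat.card_eq_one_iff_unique]
    refine ⟨⟨fun a b => Subtype.ext ?_⟩, ⟨⟨((1 : U) : U ⧸ F.subgroupOf U), fun p =>
      congrArg (QuotientGroup.mk) (Subtype.ext (by simp))⟩⟩⟩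
    have hfix : ∀ c : MulAction.fixedPoints (zpowers x) (U ⧸ F.subgroupOf U),
        (c : U ⧸ F.subgroupOf U) = ((1 : U) : U ⧸ F.subgroupOf U) := by
      rintro ⟨c, hc⟩
      induction c using QuotientGroup.induction_on with
      | _ u =>
        have h1 := hc ⟨x, mem_zpowers x⟩
        have h2 : (⟨x * u * x⁻¹, hxU u u.2⟩ : U)⁻¹ * u ∈ F.subgroupOf U := QuotientGroup.eq.mp h1
        rw [mem_subgroupOf] at h2
        push_cast at h2
        -- `x u x⁻¹ = u f`
        set f := (u : G)⁻¹ * (x * u * x⁻¹)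
        have hfF : f ∈ F := by
          have := inv_mem h2
          rwa [mul_inv_rev, inv_inv] at this
        have hxf : Commute x f := (hF f (hFU hfF)).mp hfF
        have hit : ∀ i : ℕ, x ^ i * u * (x ^ i)⁻¹ = (u : G) * f ^ i := by
          intro i
          induction i with
          | zero => simp
          | succ i ih =>
            calc x ^ (i + 1) * u * (x ^ (i + 1))⁻¹ = x * (x ^ i * u * (x ^ i)⁻¹) * x⁻¹ := by rw [pow_succ']; group
              _ = (x * u * x⁻¹) * (x * f ^ i * x⁻¹) := by rw [ih]; group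
              _ = (u : G) * f * f ^ i := by rw [(hxf.pow_right i).eq, mul_inv_cancel_right]; simp only [f]; group
              _ = _ := by rw [pow_succ', mul_assoc]
        have hfs := hit s
        rw [← hx, pow_orderOf_eq_one] at hfs
        simp only [inv_one, one_mul, mul_one, left_eq_mul] at hfs
        have hf1 : f = 1 := by
          by_contra hne
          refine hsU ?_
          rw [← orderOf_eq_prime (show f ^ s = 1 by rw [← hx]; exact hfs) hne]
          exact Subgroup.orderOf_mk f (hFU hfF) ▸ orderOf_dvd_natCard (⟨f, hFU hfF⟩ : U)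
        apply QuotientGroup.eq.mpr
        rw [mem_subgroupOf, mul_one, coe_inv]
        refine inv_mem ((hF u u.2).mpr ?_)
        have := inv_mul_eq_one.mp (show (u : G)⁻¹ * (x * u * x⁻¹) = 1 from hf1)
        exact (mul_inv_eq_iff_eq_mul.mp this.symm)
    rw [hfix a, hfix b]
  rw [hone] at hmod
  exact hmod

/-- An element of coprime prime order moving `Y` moves an abelian or nondegenerate piece. -/
theorem exists_piece {A M : Subgroup G} (h : Pairing A M) (hnd : ∀ u ∈ M, (∀ v ∈ M, u * v = v * u) → u ∈ A)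
    {x : G} {s : ℕ} (hs : s.Prime) (hx : orderOf x = s) (hsM : ¬ s ∣ Nat.card M) (hxA : ∀ a ∈ A, x * a = a * x)
    (Y : Subgroup G) (hAY : A ≤ Y) (hYM : Y ≤ M) (hxY : ∀ y ∈ Y, x * y * x⁻¹ ∈ Y) (hmove : ∃ y ∈ Y, x * y ≠ y * x) :
    ∃ k, 2 ≤ k ∧ k * k ≤ A.relIndex M ∧ (s ∣ k - 1 ∨
      (s ∣ k * k - 1 ∧ (k * k = A.relIndex M → Y = M ∧ ∀ v ∈ M, x * v = v * x → v ∈ A))) := by
  classical
  haveI := Fact.mk hs
  obtain ⟨U, ⟨hAU, hUY, hxU, y, hy, hxy⟩, hmin⟩ := (wellFounded_lt (α := Subgroup G)).has_min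
    {U : Subgroup G | A ≤ U ∧ U ≤ Y ∧ (∀ u ∈ U, x * u * x⁻¹ ∈ U) ∧ ∃ u ∈ U, x * u ≠ u * x}
    ⟨Y, hAY, le_rfl, hxY, hmove⟩
  have hUM := hUY.trans hYM
  have hsU : ¬ s ∣ Nat.card U := fun hd => hsM (hd.trans (card_dvd_of_le hUM))
  have hnormU : x ∈ normalizer (U : Set G) := Subgroup.mem_normalizer_fintype hxU
  -- `U` is generated by `A` and the commutators with `x`
  set S : Set G := (A : Set G) ∪ {c | ∃ u ∈ U, c = x * u * x⁻¹ * u⁻¹}
  have hS : closure S = U := by
    have hle : closure S ≤ U := by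
      rw [closure_le]
      rintro c (hc | ⟨u, hu, rfl⟩)
      · exact hAU hc
      · exact mul_mem (hxU u hu) (inv_mem hu)
    refine hle.eq_of_not_lt fun hlt => hmin _ ⟨fun a ha => subset_closure (Or.inl ha), hle.trans hUY, ?_, ?_⟩ hlt
    · intro u hu
      have : (closure S).map (MulAut.conj x).toMonoidHom ≤ closure S := by
        rw [MonoidHom.map_closure, closure_le]
        rintro _ ⟨c, hc, rfl⟩
        rcases hc with hc | ⟨w, hw, rfl⟩
        · refine subset_closure (Or.inl ?_)
          show x * c * x⁻¹ ∈ A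
          rw [hxA c hc, mul_inv_cancel_right]; exact hc
        · refine subset_closure (Or.inr ⟨x * w * x⁻¹, hxU w hw, ?_⟩)
          show x * (x * w * x⁻¹ * w⁻¹) * x⁻¹ = _
          group
      exact this ⟨u, hu, rfl⟩
    · by_contra hc
      push Not at hc
      apply hxy
      set c := x * y * x⁻¹ * y⁻¹ with hcdef
      have hxc : Commute x c := hc c (subset_closure (Or.inr ⟨y, hy, rfl⟩))
      have hit : ∀ i : ℕ, x ^ i * y * (x ^ i)⁻¹ = c ^ i * y := by
        intro i
        induction i with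
        | zero => simp
        | succ i ih =>
          calc x ^ (i + 1) * y * (x ^ (i + 1))⁻¹ = x * (x ^ i * y * (x ^ i)⁻¹) * x⁻¹ := by rw [pow_succ']; group
            _ = (x * c ^ i * x⁻¹) * (x * y * x⁻¹) := by rw [ih]; group
            _ = c ^ i * c * y := by rw [(hxc.pow_right i).eq, mul_inv_cancel_right, hcdef]; group
            _ = _ := by rw [pow_succ]
      have hcs := hit s
      rw [← hx, pow_orderOf_eq_one] at hcs
      simp only [inv_one, one_mul, mul_one, right_eq_mul] at hcs
      have hcU : c ∈ U := mul_mem (hxU y hy) (inv_mem hy)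
      have hc1 : c = 1 := by
        by_contra hne
        refine hsU ?_
        rw [← orderOf_eq_prime (show c ^ s = 1 by rw [← hx]; exact hcs) hne]
        exact Subgroup.orderOf_mk c hcU ▸ orderOf_dvd_natCard (⟨c, hcU⟩ : U)
      rw [hcdef, mul_inv_eq_one, mul_inv_eq_iff_eq_mul] at hc1
      exact hc1
  -- fixed points are orthogonal to `U`
  have hfixperp : ∀ v ∈ M, x * v = v * x → v ∈ centralizer (U : Set G) := by
    intro v hv hxv
    rw [← hS, centralizer_closure, mem_centralizer_iff]
    rintro c (hc | ⟨u, hu, rfl⟩)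
    · exact h.central c hc v hv
    have ha := h.comm v hv u (hUM hu)
    set a := v * u * v⁻¹ * u⁻¹
    have e1 : v * (x * u * x⁻¹) * v⁻¹ = a * (x * u * x⁻¹) := by
      calc v * (x * u * x⁻¹) * v⁻¹ = x * (v * u * v⁻¹) * x⁻¹ := by
            rw [show v * (x * u * x⁻¹) * v⁻¹ = (v * x) * u * (v * x)⁻¹ by group, ← hxv]; group
        _ = (x * a) * u * x⁻¹ := by simp only [a]; group
        _ = _ := by rw [hxA a ha]; group
    have e2 : v * u⁻¹ * v⁻¹ = u⁻¹ * a⁻¹ := by simp only [a]; group
    have e3 : v * (x * u * x⁻¹ * u⁻¹) * v⁻¹ = x * u * x⁻¹ * u⁻¹ := by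
      calc v * (x * u * x⁻¹ * u⁻¹) * v⁻¹ = (v * (x * u * x⁻¹) * v⁻¹) * (v * u⁻¹ * v⁻¹) := by group
        _ = a * ((x * u * x⁻¹ * u⁻¹) * a⁻¹) := by rw [e1, e2]; group
        _ = _ := by
          rw [← h.central _ (inv_mem ha) _ (mul_mem (hYM (hxY u (hUY hu))) (inv_mem (hUM hu))), ← mul_assoc,
            mul_inv_cancel, one_mul]
    exact (mul_inv_eq_iff_eq_mul.mp e3).symm
  set R := U ⊓ centralizer (U : Set G) with hR
  have hAR : A ≤ R := le_inf hAU fun a ha => mem_centralizer_iff.mpr fun u hu => (h.central a ha u (hUM hu)).symm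
  by_cases hRU : U ≤ centralizer (U : Set G)
  · -- abelian piece
    set k := A.relIndex U with hk
    have hUp : U ≤ perp M U := le_inf hUM hRU
    have hnd' : U ⊓ centralizer (M : Set G) = A := by
      refine le_antisymm (fun u hu => hnd u (hUM hu.1) fun v hv => (mem_centralizer_iff.mp hu.2 v hv).symm) ?_
      exact le_inf hAU fun a ha => mem_centralizer_iff.mpr fun v hv => (h.central a ha v hv).symm
    have hidx : (perp M U).relIndex M = k := by rw [perp_index h hUM, hnd']
    have hprod : A.relIndex M = A.relIndex (perp M U) * k := by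
      rw [← hidx, relIndex_mul_relIndex _ _ _ (hAU.trans hUp) inf_le_left]
    have hkle : k ≤ A.relIndex (perp M U) :=
      (Nat.le_mul_of_pos_right k (Nat.pos_of_ne_zero FiniteIndex.index_ne_zero)).trans_eq
        (relIndex_mul_relIndex A U (perp M U) hAU hUp)
    set F := U ⊓ centralizer ({x} : Set G) with hFdef
    have hFiff : ∀ u ∈ U, u ∈ F ↔ x * u = u * x := fun u hu => by
      rw [hFdef, mem_inf, mem_centralizer_singleton_iff, and_iff_right hu, eq_comm]
    have hAF : A ≤ F := fun a ha => (hFiff a (hAU ha)).mpr (hxA a ha)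
    set j := F.relIndex U with hj
    have hjk : A.relIndex F * j = k := relIndex_mul_relIndex _ _ _ hAF inf_le_left
    have hmod := card_modEq_one inf_le_left hs hx hsU hxU hFiff
    have hj0 : 0 < j := Nat.pos_of_ne_zero FiniteIndex.index_ne_zero
    have hj2 : 2 ≤ j := by
      by_contra hj2
      have hj1 : j = 1 := by omega
      exact hxy ((hFiff y hy).mp ((relIndex_eq_one.mp hj1) hy))
    refine ⟨j, hj2, ?_, Or.inl ((Nat.modEq_iff_dvd' hj0).mp hmod.symm)⟩
    have hjle : j ≤ k := hjk ▸ Nat.le_mul_of_pos_left _ (Nat.pos_of_ne_zero FiniteIndex.index_ne_zero)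
    calc j * j ≤ A.relIndex (perp M U) * k := Nat.mul_le_mul (hjle.trans hkle) hjle
      _ = _ := hprod.symm
  · -- nondegenerate piece
    have hpU : Pairing A U := ⟨h.cyc, hAU, fun a ha v hv => h.central a ha v (hUM hv),
      fun u hu v hv => h.comm u (hUM hu) v (hUM hv)⟩
    obtain ⟨k, hk⟩ := exists_sq hpU
    rw [← hR] at hk
    have hFiff : ∀ u ∈ U, u ∈ R ↔ x * u = u * x := by
      intro u hu
      refine ⟨fun huR => ?_, fun hxu => ⟨hu, hfixperp u (hUM hu) hxu⟩⟩
      by_contra hne
      have hxR : ∀ w ∈ R, x * w * x⁻¹ ∈ R := by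
        intro w hw
        refine ⟨hxU w hw.1, mem_centralizer_iff.mpr fun v hv => ?_⟩
        have hv' : x⁻¹ * v * x ∈ U := by
          simpa using (mem_normalizer_iff.mp (inv_mem hnormU) v).mp hv
        have := mem_centralizer_iff.mp hw.2 _ hv'
        calc v * (x * w * x⁻¹) = x * ((x⁻¹ * v * x) * w) * x⁻¹ := by group
          _ = _ := by rw [this]; group
      exact hmin R ⟨hAR, inf_le_left.trans hUY, hxR, u, huR, hne⟩
        (lt_of_le_of_ne inf_le_left fun e => hRU (e.ge.trans inf_le_right))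
    have hmod := card_modEq_one inf_le_left hs hx hsU hxU hFiff
    rw [hk] at hmod
    have hk2 : 2 ≤ k := by
      by_contra hk2
      interval_cases k
      · exact index_ne_zero_of_finite (H := R.subgroupOf U) hk
      · exact hRU ((relIndex_eq_one.mp hk).trans inf_le_right)
    have hle : k * k ≤ A.relIndex M := by
      rw [← hk, ← relIndex_mul_relIndex A U M hAU hUM, ← relIndex_mul_relIndex A R U hAR inf_le_left]
      calc R.relIndex U ≤ A.relIndex R * R.relIndex U := Nat.le_mul_of_pos_left _ (Nat.pos_of_ne_zero FiniteIndex.index_ne_zero)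
        _ ≤ _ := Nat.le_mul_of_pos_right _ (Nat.pos_of_ne_zero FiniteIndex.index_ne_zero)
    refine ⟨k, hk2, hle, Or.inr ⟨(Nat.modEq_iff_dvd' (Nat.one_le_iff_ne_zero.mpr (Nat.mul_ne_zero (by omega) (by omega)))).mp hmod.symm, fun heq => ?_⟩⟩
    rw [← hk, ← relIndex_mul_relIndex A U M hAU hUM, ← relIndex_mul_relIndex A R U hAR inf_le_left] at heq
    have hpos : 0 < R.relIndex U := Nat.pos_of_ne_zero FiniteIndex.index_ne_zero
    have hprod1 : A.relIndex R * U.relIndex M = 1 := by
      refine Nat.eq_of_mul_eq_mul_left hpos ?_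
      rw [mul_one]; linarith [heq]
    have hUMeq : U = M := le_antisymm hUM (relIndex_eq_one.mp (Nat.eq_one_of_mul_eq_one_left hprod1))
    have hRA : R ≤ A := relIndex_eq_one.mp (Nat.eq_one_of_mul_eq_one_right hprod1)
    exact ⟨le_antisymm hYM (hUMeq ▸ hUY), fun v hv hxv => hRA ⟨hUMeq.symm ▸ hv, hfixperp v hv hxv⟩⟩

end Cfsg.Agent.Huppert
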